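import Groth.Agent.L24.TorusField.SplitTriv
import Groth.Agent.L25.Extension.ConnBC
import Mathlib.FieldTheory.IsAlgClosed.AlgebraicClosure

/-!
# Smooth connected affine groups as Hopf algebras
-/

set_option autoImplicit false
set_option backward.isDefEq.respectTransparency.types false
set_option linter.style.haveILetI false

universe u

open CategoryTheory CategoryTheory.Limits MonoidalCategory CartesianMonoidalCategory MonObj AlgebraicGeometry
open TensorProduct
open Groth.L25.Bridge (P)
open Groth.L08.TorusQuot (sp sp_left)

noncomputable section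

namespace Groth.L20.Unirat

variable {k : Type u} [Field k]

theorem finiteType_of_lft {A : Type u} [CommRing A] [HopfAlgebra k A] [h : LocallyOfFiniteType (P k A).hom] :
    Algebra.FiniteType k A := by
  change LocallyOfFiniteType (Spec.map (CommRingCat.ofHom (algebraMap k A))) at h
  rw [HasRingHomProperty.Spec_iff (P := @LocallyOfFiniteType), CommRingCat.hom_ofHom,
    RingHom.finiteType_algebraMap] at h
  exact h

theorem connectedSpace_bc_field {K : Type u} [Field K] (θ : Spec (CommRingCat.of K) ⟶ Spec (CommRingCat.of k))
    (G : Over (Spec (CommRingCat.of k))) [GrpObj G] [ConnectedSpace G.left] :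
    ConnectedSpace (Red.bc θ G).left := by
  have hh := Groth.L25.Extension.isConnected_fibre_bc θ G (fun s => by
    rw [show G.hom.base ⁻¹' {s} = Set.univ from
      Set.eq_univ_of_forall fun x => Subsingleton.elim (α := PrimeSpectrum k) _ _]
    exact isConnected_univ) (IsLocalRing.closedPoint K)
  rw [connectedSpace_iff_univ]
  refine (congrArg _root_.IsConnected ?_).mp hh
  exact Set.eq_univ_of_forall fun x => Subsingleton.elim (α := PrimeSpectrum K) _ _

section bc

variable (k) (A : Type u) [CommRing A] [HopfAlgebra k A] (K : Type u) [Field K] [Algebra k K]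

/-- the base change of a Hopf spectrum -/
def bcP : Red.bc (Spec.map (CommRingCat.ofHom (algebraMap k K))) (P k A) ≅ P K (K ⊗[k] A) :=
  (Grp.forget _).mapIso (Groth.L25.Bridge.bcIso k A K)

instance : IsMonHom (bcP k A K).hom := (Groth.L25.Bridge.bcIso k A K).hom.hom.isMonHom_hom

instance : IsMonHom (bcP k A K).inv := (Groth.L25.Bridge.bcIso k A K).inv.hom.isMonHom_hom

theorem smooth_connected_bcP [Smooth (P k A).hom] [ConnectedSpace (P k A).left] :
    Smooth (P K (K ⊗[k] A)).hom ∧ ConnectedSpace (P K (K ⊗[k] A)).left := by
  let θ := Spec.map (CommRingCat.ofHom (algebraMap k K))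
  haveI : Smooth (Red.bc θ (P k A)).hom := inferInstanceAs (Smooth (pullback.snd (P k A).hom θ))
  haveI := connectedSpace_bc_field θ (P k A)
  haveI : IsIso (bcP k A K).inv.left := inferInstanceAs (IsIso ((Over.forget _).map (bcP k A K).inv))
  haveI : IsIso (bcP k A K).hom.left := inferInstanceAs (IsIso ((Over.forget _).map (bcP k A K).hom))
  refine ⟨by rw [← Over.w (bcP k A K).inv]; infer_instance, ?_⟩
  exact (bcP k A K).hom.left.homeomorph.surjective.connectedSpace (bcP k A K).hom.left.continuous

theorem isDomain_bc [Smooth (P k A).hom] [ConnectedSpace (P k A).left] : IsDomain (K ⊗[k] A) := by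
  haveI := (smooth_connected_bcP k A K).1
  haveI := (smooth_connected_bcP k A K).2
  exact Groth.L24.TorusField.isDomain_of_smooth_connected (k := K) (A := K ⊗[k] A)

end bc

/-- a smooth connected affine group is the spectrum of a geometrically integral finitely generated Hopf algebra -/
theorem exists_hopfData (G : Over (Spec (CommRingCat.of k))) [GrpObj G] [IsAffine G.left] [Smooth G.hom]
    [ConnectedSpace G.left] :
    ∃ (A : Type u) (_ : CommRing A) (_ : HopfAlgebra k A) (e : G ≅ P k A), IsMonHom e.hom ∧ IsMonHom e.inv ∧
      Algebra.FiniteType k A ∧ Smooth (P k A).hom ∧ ConnectedSpace (P k A).left := by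
  obtain ⟨A, _, _, ⟨e⟩⟩ := Groth.L25.Bridge.exists_hopf (R := k) G
  let eG : G ≅ P k A := (Grp.forget _).mapIso e
  haveI : IsIso eG.inv.left := inferInstanceAs (IsIso ((Over.forget _).map eG.inv))
  haveI : IsIso eG.hom.left := inferInstanceAs (IsIso ((Over.forget _).map eG.hom))
  haveI : Smooth (P k A).hom := by rw [← Over.w eG.inv]; infer_instance
  refine ⟨A, inferInstance, inferInstance, eG, e.hom.hom.isMonHom_hom, e.inv.hom.isMonHom_hom, finiteType_of_lft,
    inferInstance, eG.hom.left.homeomorph.surjective.connectedSpace eG.hom.left.continuous⟩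

/-- ring maps underlying closed immersions of Hopf spectra are surjective -/
theorem surjective_of_closedImmersion {A B : Type u} [CommRing A] [HopfAlgebra k A] [CommRing B] [HopfAlgebra k B]
    (π : A →ₐc[k] B) [h : IsClosedImmersion (sp π).left] : Function.Surjective π := by
  rw [sp_left] at h
  obtain ⟨-, hs⟩ := @IsClosedImmersion.isAffine_surjective_of_isAffine _ _ inferInstance
    (Spec.map (CommRingCat.ofHom (π : A →+* B))) h
  intro b
  obtain ⟨a, ha⟩ := hs ((Scheme.ΓSpecIso (CommRingCat.of B)).inv b)
  refine ⟨(Scheme.ΓSpecIso (CommRingCat.of A)).hom a, ?_⟩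
  have e := congr($(Scheme.ΓSpecIso_naturality (CommRingCat.ofHom (π : A →+* B))) a)
  simp only [CommRingCat.comp_apply] at e
  refine e.symm.trans ?_
  simp only [CommRingCat.hom_comp, RingHom.comp_apply]
  rw [ha]
  exact congr($((Scheme.ΓSpecIso (CommRingCat.of B)).inv_hom_id) b)

end Groth.L20.Unirat
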