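import Groth.Agent.L20.Unir.Families
import Mathlib.FieldTheory.PurelyInseparable.PerfectClosure
import Mathlib.Algebra.MvPolynomial.Equiv
import Mathlib.Algebra.CharP.IntermediateField

/-!
# Unirationality over finite fields
-/

set_option autoImplicit false
set_option linter.style.haveILetI false
set_option linter.unusedSectionVars false

universe u

open TensorProduct

noncomputable section

namespace Groth.L20.Unirat

variable (k : Type u) [Field k]

section inseparable

variable {L : Type u} [Field L] [Algebra k L] [Algebra (FractionRing (Polynomial k)) L]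
  [IsScalarTower k (FractionRing (Polynomial k)) L] [IsPurelyInseparable (FractionRing (Polynomial k)) L]
  (q : ℕ) [ExpChar k q] [PerfectRing k q] [ExpChar L q] [PerfectRing L q]

/-- the indeterminate -/
def tL : L := algebraMap (FractionRing (Polynomial k)) L (algebraMap (Polynomial k) _ Polynomial.X)

/-- the root of the indeterminate -/
def sR (r : ℕ) : L := (iterateFrobeniusEquiv L q r).symm (tL k)

theorem aeval_tL (P : Polynomial k) :
    Polynomial.aeval (tL k : L) P = algebraMap (FractionRing (Polynomial k)) L (algebraMap (Polynomial k) _ P) := by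
  rw [tL, Polynomial.aeval_algebraMap_apply, Polynomial.aeval_algebraMap_apply, Polynomial.aeval_X_left_apply]

theorem pow_aeval_sR (r : ℕ) (P : Polynomial k) :
    (Polynomial.aeval (sR k q r : L) P) ^ q ^ r =
      Polynomial.aeval (tL k : L) (P.map (iterateFrobenius k q r)) := by
  rw [← iterateFrobenius_def, Polynomial.aeval_def, Polynomial.hom_eval₂, Polynomial.aeval_def, Polynomial.eval₂_map]
  congr 1
  · ext c
    simp [iterateFrobenius_def]
  · exact (iterateFrobeniusEquiv L q r).apply_symm_apply (tL k)

theorem aeval_sR_injective (r : ℕ) :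
    Function.Injective (Polynomial.aeval (sR k q r : L) : Polynomial k →ₐ[k] L) := by
  refine (injective_iff_map_eq_zero _).2 fun P hP => ?_
  have h := pow_aeval_sR k (L := L) q r P
  rw [hP, zero_pow (pow_ne_zero _ (expChar_ne_zero k q)), aeval_tL] at h
  have h1 := (map_eq_zero_iff _ (IsFractionRing.injective (Polynomial k) (FractionRing (Polynomial k)))).1
    ((map_eq_zero_iff _ (algebraMap (FractionRing (Polynomial k)) L).injective).1 h.symm)
  exact Polynomial.map_eq_zero_iff (iterateFrobenius k q r).injective |>.1 h1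

variable (n : ℕ)

/-- polynomials in a root of the indeterminate and the variables -/
def phiPoly (r : ℕ) : MvPolynomial (Fin (n + 1)) k →ₐ[k] MvPolynomial (Fin n) L :=
  (MvPolynomial.mapAlgHom (Polynomial.aeval (sR k q r : L))).comp
    ((MvPolynomial.renameEquiv k (finSuccEquiv n)).trans (MvPolynomial.optionEquivRight k (Fin n))).toAlgHom

theorem phiPoly_injective (r : ℕ) : Function.Injective (phiPoly k (L := L) q n r) :=
  (MvPolynomial.map_injective _ (aeval_sR_injective k q r)).comp
    ((MvPolynomial.renameEquiv k (finSuccEquiv n)).trans (MvPolynomial.optionEquivRight k (Fin n))).injective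

theorem phiPoly_zero (r : ℕ) : phiPoly k (L := L) q n r (MvPolynomial.X 0) = MvPolynomial.C (sR k q r) := by
  simp [phiPoly]

theorem phiPoly_succ (r : ℕ) (i : Fin n) :
    phiPoly k (L := L) q n r (MvPolynomial.X i.succ) = MvPolynomial.X i := by
  simp [phiPoly]

/-- polynomials in a root of the indeterminate, as rational functions -/
def phiMap (r : ℕ) : MvPolynomial (Fin (n + 1)) k →ₐ[k] FractionRing (MvPolynomial (Fin n) L) :=
  (IsScalarTower.toAlgHom k (MvPolynomial (Fin n) L) (FractionRing (MvPolynomial (Fin n) L))).comp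
    (phiPoly k (L := L) q n r)

theorem phiMap_injective (r : ℕ) : Function.Injective (phiMap k (L := L) q n r) := by
  rw [phiMap, AlgHom.coe_comp]
  exact (IsFractionRing.injective (MvPolynomial (Fin n) L) (FractionRing (MvPolynomial (Fin n) L))).comp
    (phiPoly_injective k (L := L) q n r)

theorem phiMap_apply (r : ℕ) (p : MvPolynomial (Fin (n + 1)) k) :
    phiMap k (L := L) q n r p =
      algebraMap (MvPolynomial (Fin n) L) (FractionRing (MvPolynomial (Fin n) L)) (phiPoly k (L := L) q n r p) :=
  rfl

/-- the rational functions in a root of the indeterminate and the variables -/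
def phiFrac (r : ℕ) :
    FractionRing (MvPolynomial (Fin (n + 1)) k) →ₐ[k] FractionRing (MvPolynomial (Fin n) L) :=
  IsFractionRing.liftAlgHom (phiMap_injective k (L := L) q n r)

theorem phiFrac_algebraMap (r : ℕ) (p : MvPolynomial (Fin (n + 1)) k) :
    phiFrac k (L := L) q n r (algebraMap _ _ p) =
      algebraMap (MvPolynomial (Fin n) L) (FractionRing (MvPolynomial (Fin n) L)) (phiPoly k (L := L) q n r p) := by
  rw [← phiMap_apply]
  exact IsFractionRing.lift_algebraMap (phiMap_injective k (L := L) q n r) p

theorem algebraMap_mem (y : L) :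
    ∃ r₀, ∀ r, r₀ ≤ r →
      algebraMap (MvPolynomial (Fin n) L) (FractionRing (MvPolynomial (Fin n) L)) (MvPolynomial.C y) ∈
        (phiFrac k (L := L) q n r).range := by
  haveI : ExpChar (FractionRing (Polynomial k)) q :=
    expChar_of_injective_ringHom (algebraMap k (FractionRing (Polynomial k))).injective q
  obtain ⟨r₀, x, hx⟩ := IsPurelyInseparable.pow_mem (FractionRing (Polynomial k)) q y
  refine ⟨r₀, fun r hr => ?_⟩
  have hy : y ^ q ^ r = algebraMap (FractionRing (Polynomial k)) L (x ^ q ^ (r - r₀)) := by
    rw [map_pow, hx, ← pow_mul, ← pow_add, Nat.add_sub_cancel' hr]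
  obtain ⟨P, Q, hQ, hPQ⟩ := IsFractionRing.div_surjective (A := Polynomial k) (x ^ q ^ (r - r₀))
  have hQ0 : Q ≠ 0 := nonZeroDivisors.ne_zero hQ
  let ψ : Polynomial k → Polynomial k := Polynomial.map ((iterateFrobeniusEquiv k q r).symm : k →+* k)
  have hψ : ∀ F : Polynomial k,
      (Polynomial.aeval (sR k q r : L) (ψ F)) ^ q ^ r = Polynomial.aeval (tL k : L) F := fun F => by
    rw [pow_aeval_sR, Polynomial.map_map]
    congr 1
    conv_rhs => rw [← Polynomial.map_id (p := F)]
    congr 1
    ext c
    simp [← coe_iterateFrobeniusEquiv]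
  have hQ1 : Polynomial.aeval (sR k q r : L) (ψ Q) ≠ 0 := fun e =>
    hQ0 ((Polynomial.map_eq_zero_iff (iterateFrobeniusEquiv k q r).symm.injective).1
      (aeval_sR_injective k q r (e.trans (map_zero _).symm)))
  have hy2 : y = Polynomial.aeval (sR k q r : L) (ψ P) / Polynomial.aeval (sR k q r : L) (ψ Q) := by
    apply (iterateFrobenius L q r).injective
    rw [iterateFrobenius_def, iterateFrobenius_def, div_pow, hψ, hψ, aeval_tL, aeval_tL, ← map_div₀, hPQ, hy]
  let W := (phiFrac k (L := L) q n r).range
  have hs : ∀ F : Polynomial k, algebraMap (MvPolynomial (Fin n) L) (FractionRing (MvPolynomial (Fin n) L))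
      (MvPolynomial.C (Polynomial.aeval (sR k q r : L) F)) ∈ W := fun F => by
    refine ⟨algebraMap _ _ (Polynomial.aeval (MvPolynomial.X 0 : MvPolynomial (Fin (n + 1)) k) F), ?_⟩
    show phiFrac k q n r _ = _
    rw [phiFrac_algebraMap, ← Polynomial.aeval_algHom_apply, phiPoly_zero]
    congr 1
    exact Polynomial.aeval_algHom_apply (IsScalarTower.toAlgHom k L (MvPolynomial (Fin n) L)) (sR k q r) F
  obtain ⟨a, ha⟩ := hs (ψ P)
  obtain ⟨b, hb⟩ := hs (ψ Q)
  refine ⟨a / b, ?_⟩
  show phiFrac k q n r (a / b) = _
  replace ha : phiFrac k q n r a = _ := ha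
  replace hb : phiFrac k q n r b = _ := hb
  rw [map_div₀, ha, hb, div_eq_iff, ← map_mul, ← map_mul, hy2, div_mul_cancel₀ _ hQ1]
  exact (map_ne_zero_iff _ (IsFractionRing.injective _ _)).2 (MvPolynomial.C_ne_zero.2 hQ1)

theorem mem_range_phiFrac (z : FractionRing (MvPolynomial (Fin n) L)) :
    ∃ r₀, ∀ r, r₀ ≤ r → z ∈ (phiFrac k (L := L) q n r).range := by
  obtain ⟨a, b, hb, rfl⟩ := IsFractionRing.div_surjective (A := MvPolynomial (Fin n) L) z
  have key : ∀ p : MvPolynomial (Fin n) L, ∃ r₀, ∀ r, r₀ ≤ r →
      algebraMap (MvPolynomial (Fin n) L) (FractionRing (MvPolynomial (Fin n) L)) p ∈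
        (phiFrac k (L := L) q n r).range := by
    intro p
    induction p using MvPolynomial.induction_on with
    | C y => exact algebraMap_mem k q n y
    | add p p' hp hp' =>
      obtain ⟨r₁, h₁⟩ := hp
      obtain ⟨r₂, h₂⟩ := hp'
      exact ⟨max r₁ r₂, fun r hr => by
        rw [map_add]; exact add_mem (h₁ r (le_of_max_le_left hr)) (h₂ r (le_of_max_le_right hr))⟩
    | mul_X p i hp =>
      obtain ⟨r₁, h₁⟩ := hp
      refine ⟨r₁, fun r hr => ?_⟩
      rw [map_mul]
      exact mul_mem (h₁ r hr) ⟨algebraMap _ _ (MvPolynomial.X i.succ), (phiFrac_algebraMap k q n r _).trans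
        (congrArg _ (phiPoly_succ k q n r i))⟩
  obtain ⟨r₁, h₁⟩ := key a
  obtain ⟨r₂, h₂⟩ := key b
  refine ⟨max r₁ r₂, fun r hr => ?_⟩
  obtain ⟨a', ha'⟩ := h₁ r (le_of_max_le_left hr)
  obtain ⟨b', hb'⟩ := h₂ r (le_of_max_le_right hr)
  exact ⟨a' / b', (map_div₀ _ _ _).trans (congrArg₂ (· / ·) ha' hb')⟩

include q in
/-- unirationality descends from a perfection of the rational function field -/
theorem unir_of_inseparable {A : Type u} [CommRing A] [Algebra k A] [Algebra.FiniteType k A]
    (h : Unir L (L ⊗[k] A)) : Unir k A := by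
  classical
  obtain ⟨n, f, hf⟩ := h
  let F : A →ₐ[k] FractionRing (MvPolynomial (Fin n) L) :=
    (f.restrictScalars k).comp (Algebra.TensorProduct.includeRight : A →ₐ[k] L ⊗[k] A)
  have hF : Function.Injective F :=
    hf.comp (Algebra.TensorProduct.includeRight_injective (R := k) (A := L) (B := A) (algebraMap k L).injective)
  obtain ⟨S, hS⟩ := Algebra.FiniteType.out (R := k) (A := A)
  choose r₀ hr₀ using fun a : A => mem_range_phiFrac k (L := L) q n (F a)
  let r := S.sup r₀
  have hle : F.range ≤ (phiFrac k (L := L) q n r).range := by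
    rw [← Algebra.map_top, ← hS, AlgHom.map_adjoin, Algebra.adjoin_le_iff]
    rintro _ ⟨a, ha, rfl⟩
    exact hr₀ a r (Finset.le_sup (Finset.mem_coe.1 ha))
  let Φ := phiFrac k (L := L) q n r
  refine ⟨n + 1, (AlgEquiv.ofInjective Φ Φ.injective).symm.toAlgHom.comp
    (F.codRestrict Φ.range fun a => hle ⟨a, rfl⟩), ?_⟩
  exact (AlgEquiv.ofInjective Φ Φ.injective).symm.injective.comp ((AlgHom.injective_codRestrict _ _ _).2 hF)

end inseparable

open AlgebraicGeometry Groth.L25.Bridge in
/-- **smooth connected affine groups over perfect fields** -/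
theorem unir_of_perfectField [PerfectField k] (A : Type u) [CommRing A] [HopfAlgebra k A] [Algebra.FiniteType k A]
    [Smooth (P k A).hom] [ConnectedSpace (P k A).left] : Unir k A := by
  rcases finite_or_infinite k with hk | hk
  · let K := FractionRing (Polynomial k)
    obtain ⟨L, _, _, _, _, _, _⟩ : ∃ (L : Type u) (_ : Field L) (_ : Algebra k L) (_ : Algebra K L),
        IsScalarTower k K L ∧ IsPurelyInseparable K L ∧ PerfectField L :=
      ⟨perfectClosure K (AlgebraicClosure K), inferInstance, inferInstance, inferInstance,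
        inferInstance, inferInstance, inferInstance⟩
    let q := ringExpChar k
    haveI : PerfectRing k q := PerfectField.toPerfectRing q
    haveI : ExpChar L q := expChar_of_injective_ringHom (algebraMap k L).injective q
    haveI : PerfectRing L q := PerfectField.toPerfectRing q
    haveI : Infinite K := Infinite.of_injective _ (IsFractionRing.injective (Polynomial k) K)
    haveI : Infinite L := Infinite.of_injective _ (algebraMap K L).injective
    haveI := (smooth_connected_bcP k A L).1
    haveI := (smooth_connected_bcP k A L).2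
    exact unir_of_inseparable k q (unir_of_perfect (k := L) (A := L ⊗[k] A))
  · exact unir_of_perfect

end Groth.L20.Unirat
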