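import Groth.Agent.L20.Unir.Finite
import Mathlib.AlgebraicGeometry.AffineSpace

/-!
# Dominant maps from opens of affine space
-/

set_option autoImplicit false
set_option backward.isDefEq.respectTransparency.types false
set_option linter.style.haveILetI false

universe u

open CategoryTheory CategoryTheory.Limits AlgebraicGeometry
open Groth.L25.Bridge (P)

noncomputable section

namespace Groth.L20.Unirat

variable {k : Type u} [Field k]

/-- **a unirational group receives a dominant map from an open of affine space** -/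
theorem exists_dominant {G : Over (Spec (CommRingCat.of k))} {A : Type u} [CommRing A] [HopfAlgebra k A]
    [Algebra.FiniteType k A] (e : G ≅ P k A) (h : Unir k A) :
    ∃ (n : ℕ) (V : (AffineSpace (ULift.{u} (Fin n)) (Spec (CommRingCat.of k))).Opens) (φ : (V : Scheme.{u}) ⟶ G.left),
      (V : Set ↥(AffineSpace (ULift.{u} (Fin n)) (Spec (CommRingCat.of k)))).Nonempty ∧ DenseRange φ.base ∧
      φ ≫ G.hom = V.ι ≫ (AffineSpace (ULift.{u} (Fin n)) (Spec (CommRingCat.of k)) ↘ (Spec (CommRingCat.of k))) := by
  obtain ⟨n, f, hf⟩ := h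
  obtain ⟨D, hD, j, g, hj, hjg⟩ := exists_away_factor f
  have hg : Function.Injective g := fun a b e0 => hf (by rw [← hjg, AlgHom.comp_apply, AlgHom.comp_apply, e0])
  let R := MvPolynomial (Fin n) k
  let R' := MvPolynomial (ULift.{u} (Fin n)) k
  let r : R' ≃ₐ[k] R := MvPolynomial.renameEquiv k Equiv.ulift
  let i : Spec (CommRingCat.of (Localization.Away D)) ⟶ Spec (CommRingCat.of R) :=
    Spec.map (CommRingCat.ofHom (algebraMap R (Localization.Away D)))
  haveI : IsOpenImmersion i := IsOpenImmersion.of_isLocalization D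
  let ρ : Spec (CommRingCat.of R) ≅ Spec (CommRingCat.of R') :=
    Scheme.Spec.mapIso r.toRingEquiv.toCommRingCatIso.op
  let ι' : Spec (CommRingCat.of (Localization.Away D)) ⟶ AffineSpace (ULift.{u} (Fin n)) (Spec (CommRingCat.of k)) :=
    i ≫ ρ.hom ≫ (AffineSpace.SpecIso (ULift.{u} (Fin n)) (CommRingCat.of k)).inv
  haveI : IsOpenImmersion ι' := inferInstance
  let ψ : Spec (CommRingCat.of (Localization.Away D)) ⟶ G.left :=
    Spec.map (CommRingCat.ofHom g.toRingHom) ≫ e.inv.left
  refine ⟨n, ι'.opensRange, ι'.isoOpensRange.inv ≫ ψ, ?_, ?_, ?_⟩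
  · haveI : Nontrivial (Localization.Away D) := j.toRingHom.domain_nontrivial
    obtain ⟨x⟩ : Nonempty (PrimeSpectrum (Localization.Away D)) := inferInstance
    exact ⟨ι' x, x, rfl⟩
  · have h1 : DenseRange (Spec.map (CommRingCat.ofHom g.toRingHom)).base :=
      (PrimeSpectrum.denseRange_comap_iff_ker_le_nilRadical g.toRingHom).2 (by
        rw [(RingHom.injective_iff_ker_eq_bot g.toRingHom).1 hg]; exact bot_le)
    haveI : IsIso e.inv.left := inferInstanceAs (IsIso ((Over.forget _).map e.inv))
    have h2 : DenseRange ψ.base := e.inv.left.homeomorph.surjective.denseRange.comp h1 e.inv.left.continuous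
    rw [Scheme.Hom.comp_base, TopCat.coe_comp]
    exact DenseRange.comp h2 ι'.isoOpensRange.inv.homeomorph.surjective.denseRange ψ.continuous
  · rw [Category.assoc, ← Iso.cancel_iso_hom_left ι'.isoOpensRange, Iso.hom_inv_id_assoc, ← Category.assoc
      ι'.isoOpensRange.hom, Scheme.Hom.isoOpensRange_hom_ι]
    simp only [ψ, ι', i, ρ, Category.assoc, Over.w e.inv, AffineSpace.SpecIso_inv_over]
    refine (congrArg (Spec.map (CommRingCat.ofHom g.toRingHom) ≫ ·) (Over.w e.inv)).trans ?_
    show Spec.map _ ≫ Spec.map (CommRingCat.ofHom (algebraMap k A)) = Spec.map _ ≫ Spec.map _ ≫ Spec.map _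
    rw [← Spec.map_comp, ← Spec.map_comp, ← Spec.map_comp]
    refine congrArg Spec.map (CommRingCat.hom_ext ?_)
    ext c
    show g (algebraMap k A c) = algebraMap R (Localization.Away D) (r (MvPolynomial.C c))
    rw [g.commutes, show r (MvPolynomial.C c) = MvPolynomial.C c from r.commutes c,
      IsScalarTower.algebraMap_apply k R (Localization.Away D), MvPolynomial.algebraMap_eq]

end Groth.L20.Unirat
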